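import Cfsg.Prelude.Def_KGroupFacts
import Cfsg.Agent.Chars.Burnside
import Cfsg.Agent.OddChar.PF.OddOrder
import Cfsg.Agent.OutSol.Residual
import Mathlib

/-!
Small criteria for solvability of outer automorphism groups.
-/

set_option autoImplicit false
set_option linter.style.haveILetI false

namespace Cfsg.Lib.OutKnown

open Subgroup

universe u v

/-- isomorphic groups have isomorphic outer automorphism groups -/
noncomputable def outCongr {X : Type u} [Group X] {Y : Type v} [Group Y] (e : X ≃* Y) :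
    Cfsg.Out X ≃* Cfsg.Out Y :=
  QuotientGroup.congr (Cfsg.Inn X) (Cfsg.Inn Y) (MulAut.congr e) (by
    ext φ
    constructor
    · rintro ⟨_, ⟨x, rfl⟩, rfl⟩
      exact ⟨e x, MulEquiv.ext fun y => by simp [MulAut.congr]⟩
    · rintro ⟨y, rfl⟩
      exact ⟨MulAut.conj (e.symm y), ⟨e.symm y, rfl⟩, MulEquiv.ext fun z => by simp [MulAut.congr]⟩)

theorem of_equiv {X : Type u} [Group X] {Y : Type v} [Group Y] (e : X ≃* Y)
    (h : Group.IsSolvable (Cfsg.Out Y)) : Group.IsSolvable (Cfsg.Out X) := by
  haveI := h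
  exact Group.isSolvable_of_isSolvable_injective (f := (outCongr e).toMonoidHom) (MulEquiv.injective _)

theorem of_cyclic {Z : Type u} [Group Z] (h : IsCyclic Z) : Group.IsSolvable Z := by
  haveI := h
  letI : CommGroup Z := IsCyclic.commGroup
  exact Group.isSolvable_of_comm mul_comm

theorem of_hom_comm {Z : Type u} [Group Z] {A : Type v} [CommGroup A] (φ : Z →* A)
    (h : Group.IsSolvable φ.ker) : Group.IsSolvable Z := by
  haveI := h
  exact Group.isSolvable_of_ker_le_range φ.ker.subtype φ (by simp)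

theorem perm_solvable {n : ℕ} (hn : n ≤ 4) : Group.IsSolvable (Equiv.Perm (Fin n)) :=
  Cfsg.Lib.OutSol.isSolvable_perm_small (by simpa using hn)

theorem of_equiv_mult {Z : Type u} [Group Z] {A : Type v} [AddCommGroup A] (e : Z ≃* Multiplicative A) :
    Group.IsSolvable Z := by
  haveI : Group.IsSolvable (Multiplicative A) := Group.isSolvable_of_comm mul_comm
  exact Group.isSolvable_of_isSolvable_injective (f := e.toMonoidHom) e.injective

theorem of_card_le_two {Z : Type u} [Group Z] (h : Nat.card Z = 1 ∨ Nat.card Z = 2) : Group.IsSolvable Z := by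
  rcases h with h | h
  · haveI : Subsingleton Z := (Nat.card_eq_one_iff_unique.mp h).1
    exact of_cyclic inferInstance
  · haveI : Fact (Nat.Prime 2) := ⟨Nat.prime_two⟩
    exact of_cyclic (isCyclic_of_prime_card h)

theorem of_card_odd {Z : Type u} [Group Z] (h : Odd (Nat.card Z)) : Group.IsSolvable Z := by
  haveI : Finite Z := Nat.finite_of_card_ne_zero fun h0 => by simp [h0] at h
  exact Cfsg.Agent.PF.isSolvable_of_odd Z h

/-- an abelian subgroup of index at most four -/
theorem of_comm_index_le_four {Z : Type u} [Group Z] [Finite Z] (A : Subgroup Z)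
    (hA : ∀ a ∈ A, ∀ b ∈ A, a * b = b * a) (hidx : A.index ≤ 4) : Group.IsSolvable Z := by
  haveI : Group.IsSolvable (Equiv.Perm (Z ⧸ A)) := Cfsg.Lib.OutSol.isSolvable_perm_small hidx
  haveI : Group.IsSolvable (MulAction.toPermHom Z (Z ⧸ A)).ker := by
    refine Group.isSolvable_of_comm fun a b => Subtype.ext (hA a.1 ?_ b.1 ?_)
    · exact Subgroup.normalCore_le A ((Subgroup.normalCore_eq_ker A).ge a.2)
    · exact Subgroup.normalCore_le A ((Subgroup.normalCore_eq_ker A).ge b.2)
  exact Group.isSolvable_of_ker_le_range (MulAction.toPermHom Z (Z ⧸ A)).ker.subtype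
    (MulAction.toPermHom Z (Z ⧸ A)) (by simp)

theorem field_data (F : Type u) [Field F] [Fintype F] :
    ∃ (p f : ℕ), ∃ (_ : Fact p.Prime) (_ : CharP F p), 1 ≤ f ∧ Fintype.card F = p ^ f := by
  obtain ⟨p, hc, n, hp, hF⟩ := FiniteField.card' F
  exact ⟨p, n, ⟨hp⟩, hc, n.pos, hF⟩

end Cfsg.Lib.OutKnown
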