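import Cfsg.Agent.OutSol.Known.Base
import Cfsg.Agent.S2119
import Cfsg.Agent.S2600
import Cfsg.Agent.S2601
import Cfsg.Agent.S2602
import Cfsg.Agent.S2603
import Cfsg.Agent.S2604
import Cfsg.Agent.S2605
import Cfsg.Agent.S2606
import Cfsg.Agent.S2607
import Cfsg.Agent.S2608
import Cfsg.Agent.Classical.Misc.PSLNine
import Cfsg.Agent.Known.Balance.Symp
import Cfsg.Agent.Classical.AutOrders.PSpAut
import Cfsg.Agent.Known.ChevAut.OutStruct
import Cfsg.Prelude.Def_Classical

/-!
Outer automorphism groups of alternating and classical simple groups are solvable.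
-/

set_option autoImplicit false
set_option linter.style.haveILetI false

namespace Cfsg.Lib.OutKnown

open Subgroup

universe u

theorem psl_two {F : Type} [Field F] [Fintype F] (h4 : 4 ≤ Fintype.card F) :
    Group.IsSolvable (Cfsg.Out (Matrix.ProjectiveSpecialLinearGroup (Fin 2) F)) := by
  obtain ⟨p, f, hp, -, hf, hF⟩ := field_data F
  obtain ⟨φ, -, hc, -⟩ := Cfsg.Agent.S2602.result hf hF (hF ▸ h4)
  exact of_hom_comm φ (of_cyclic hc)

theorem alternating {n : ℕ} (hn : 5 ≤ n) : Group.IsSolvable (Cfsg.Out ↥(alternatingGroup (Fin n))) := by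
  by_cases h6 : n = 6
  · subst h6
    haveI : Fact (Nat.Prime 3) := ⟨Nat.prime_three⟩
    haveI : Fintype (GaloisField 3 2) := Fintype.ofFinite _
    obtain ⟨e⟩ := Cfsg.Lib.Classical.PSLNine.psl_nine (F := GaloisField 3 2) (by
      rw [← Nat.card_eq_fintype_card, GaloisField.card 3 2 two_ne_zero]; rfl)
    exact of_equiv e.symm (psl_two (by
      rw [← Nat.card_eq_fintype_card, GaloisField.card 3 2 two_ne_zero]; norm_num))
  haveI : Nontrivial (Fin n) := Fin.nontrivial_iff_two_le.2 (by omega)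
  have hb := Cfsg.Agent.S2119.result n (by omega) h6
  let q : Equiv.Perm (Fin n) →* Cfsg.Out ↥(alternatingGroup (Fin n)) :=
    (QuotientGroup.mk' _).comp MulAut.conjNormal
  have hle : alternatingGroup (Fin n) ≤ q.ker := fun σ hσ =>
    (QuotientGroup.eq_one_iff _).2 ⟨⟨σ, hσ⟩, MulEquiv.ext fun y => Subtype.ext rfl⟩
  haveI : Group.IsSolvable (Equiv.Perm (Fin n) ⧸ alternatingGroup (Fin n)) :=
    of_card_le_two (Or.inr (by rw [← index_eq_card]; exact alternatingGroup.index_eq_two))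
  exact Group.isSolvable_of_surjective (f := QuotientGroup.lift _ q hle) fun y => by
    obtain ⟨φ, rfl⟩ := QuotientGroup.mk'_surjective _ y
    obtain ⟨σ, rfl⟩ := hb.2 φ
    exact ⟨σ, rfl⟩

theorem psl {F : Type} [Field F] [Fintype F] {n : ℕ} (hn : 2 ≤ n) (h4 : n = 2 → 4 ≤ Fintype.card F) :
    Group.IsSolvable (Cfsg.Out (Matrix.ProjectiveSpecialLinearGroup (Fin n) F)) := by
  rcases eq_or_lt_of_le hn with rfl | h3
  · exact psl_two (h4 rfl)
  obtain ⟨p, f, hp, -, hf, hF⟩ := field_data F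
  obtain ⟨φ, -, hc, -⟩ := Cfsg.Agent.S2601.result hf hF h3
  exact of_hom_comm φ (of_cyclic hc)

section PSp

open Cfsg.Lib.Sympl Cfsg.Lib.Classical.AutOrders

theorem psp {F : Type} [Field F] [Fintype F] {m : ℕ} (hm : 2 ≤ m) :
    Group.IsSolvable (Cfsg.Out (Cfsg.PSp m F)) := by
  classical
  obtain ⟨p, f, hp, hc, hf, hF⟩ := field_data F
  by_cases h : m = 2 ∧ p = 2
  · obtain ⟨rfl, rfl⟩ := h
    exact of_cyclic (Cfsg.Agent.S2600.result hf hF).1
  have hdec : ∀ α : MulAut (Cfsg.PSp m F), ∃ (g : Cfsg.GSp m F) (σ : F ≃+* F), α = conjS g * fieldS σ := fun α =>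
    Cfsg.Lib.Balance.psp_decomp hm (r := p) α fun h1 h2 => absurd ⟨h2, h1⟩ h
  haveI : Finite (MulAut (Cfsg.PSp m F)) := Finite.of_injective (fun e => (e : Cfsg.PSp m F → Cfsg.PSp m F))
    DFunLike.coe_injective
  let q : MulAut (Cfsg.PSp m F) →* Cfsg.Out (Cfsg.PSp m F) := QuotientGroup.mk' _
  let fhom : (F ≃+* F) →* MulAut (Cfsg.PSp m F) := fieldS
  let A := (q.comp fhom).range
  let ψ : Cfsg.GSp m F →* Cfsg.Out (Cfsg.PSp m F) := q.comp conjS
  have hm1 : 1 ≤ m := by omega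
  have hidx : ψ.ker.index ≤ 2 := by
    set sq := (powMonoidHom 2 : Fˣ →* Fˣ).range with hsq
    have hle : sq.comap (muHom hm1) ≤ ψ.ker := by
      rintro g ⟨u, hu⟩
      have h1 : mu (g * (scal u)⁻¹) = 1 := by
        show muHom hm1 (g * (scal u)⁻¹) = 1
        rw [map_mul, map_inv, ← hu, mul_inv_eq_one, powMonoidHom_apply]
        exact (mu_scal hm1 u).symm
      obtain ⟨s, hs⟩ := exists_sp_of_mu hm1 h1
      rw [MonoidHom.mem_ker, show g = spToGSp s * scal u by rw [← hs, inv_mul_cancel_right]]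
      refine (QuotientGroup.eq_one_iff _).2 ?_
      rw [map_mul, conjS_scal, mul_one]
      exact (inn_iff _).2 ⟨s, rfl⟩
    have h2 : sq.index ≤ 2 := by
      have h3 := (powMonoidHom 2 : Fˣ →* Fˣ).ker.card_mul_index
      have h4 := sq.card_mul_index
      rw [index_ker, ← hsq] at h3
      have h5 : Nat.card (powMonoidHom 2 : Fˣ →* Fˣ).ker ≤ 2 := by
        refine le_trans (Nat.card_le_card_of_injective
          (fun x : (powMonoidHom 2 : Fˣ →* Fˣ).ker => decide ((x : Fˣ) = 1)) fun a b e => ?_)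
          (le_of_eq (Nat.card_eq_fintype_card.trans Fintype.card_bool))
        have hsq : ∀ x : (powMonoidHom 2 : Fˣ →* Fˣ).ker, (x : Fˣ) = 1 ∨ (x : Fˣ) = -1 := fun x => by
          have hx : ((x : Fˣ) : F) * (x : Fˣ) = 1 := by
            rw [← Units.val_mul, ← pow_two]
            exact congrArg Units.val x.2
          exact (mul_self_eq_one_iff.1 hx).imp Units.ext fun h => Units.ext (h.trans (Units.val_neg 1).symm)
        refine Subtype.ext ?_
        rcases hsq a with ha | ha <;> rcases hsq b with hb | hb <;> rw [ha, hb] <;>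
          simp [ha, hb] at e <;> first | rfl | exact e.symm | exact e
      have h6 : 0 < Nat.card sq := Nat.card_pos
      nlinarith
    refine le_trans (Nat.le_of_dvd ?_ (index_dvd_of_le hle)) ?_
    · rw [index_comap_of_surjective _ (fun c => mu_surjective hm1 c)]
      exact Nat.pos_of_ne_zero index_ne_zero_of_finite
    · rwa [index_comap_of_surjective _ (fun c => mu_surjective hm1 c)]
  refine of_comm_index_le_four A ?_ ?_
  · rintro _ ⟨σ, rfl⟩ _ ⟨τ, rfl⟩
    haveI := (Cfsg.Lib.Known.ChevAut.ringAut_facts (F := F) p f hF).1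
    letI : CommGroup (F ≃+* F) := IsCyclic.commGroup
    rw [← map_mul, ← map_mul, mul_comm]
  · haveI : Finite (Cfsg.Out (Cfsg.PSp m F)) := Quotient.finite _
    rw [index_eq_card]
    have hs : Function.Surjective (fun d : ψ.range => (d.1 : Cfsg.Out (Cfsg.PSp m F) ⧸ A)) := by
      intro x
      obtain ⟨y, rfl⟩ := QuotientGroup.mk_surjective x
      obtain ⟨α, rfl⟩ := QuotientGroup.mk'_surjective _ y
      obtain ⟨g, σ, rfl⟩ := hdec α
      refine ⟨⟨ψ g, g, rfl⟩, (QuotientGroup.eq).2 ⟨σ, ?_⟩⟩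
      show q (fieldS σ) = (q (conjS g))⁻¹ * q (conjS g * fieldS σ)
      rw [map_mul, inv_mul_cancel_left]
    refine (Nat.card_le_card_of_surjective _ hs).trans ?_
    rw [← index_ker]
    omega

end PSp

theorem psu {F : Type} [Field F] [Fintype F] {n q : ℕ} (hq : Fintype.card F = q ^ 2) (hn : 3 ≤ n)
    (h32 : ¬ (n = 3 ∧ q = 2)) : Group.IsSolvable (Cfsg.Out (Cfsg.PSU n F q)) := by
  obtain ⟨p, f, hp, -, hf, hF⟩ := field_data F
  have hq1 : q ≠ 0 := fun h => by rw [h, zero_pow two_ne_zero] at hq; exact Fintype.card_ne_zero hq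
  have hd : q ∣ p ^ f := ⟨q, by rw [← hF, hq, pow_two]⟩
  obtain ⟨i, -, rfl⟩ := (Nat.dvd_prime_pow hp.out).1 hd
  have hi : 1 ≤ i := by
    rcases Nat.eq_zero_or_pos i with rfl | h
    · have h1 : 1 < Fintype.card F := Fintype.one_lt_card
      simp [hq] at h1
    · exact h
  obtain ⟨φ, -, hc, -⟩ := Cfsg.Agent.S2603.result hi rfl hq hn h32
  exact of_hom_comm φ (of_cyclic hc)

theorem pOmega_odd {F : Type} [Field F] [Fintype F] {m : ℕ} (hm : 3 ≤ m) (hodd : Odd (Fintype.card F)) :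
    Group.IsSolvable (Cfsg.Out (Cfsg.POmega F (Cfsg.quadFormOdd m F))) := by
  obtain ⟨p, f, hp, -, hf, hF⟩ := field_data F
  have hp2 : p ≠ 2 := fun h => by
    rw [hF, h, Nat.odd_pow_iff (by omega)] at hodd
    exact absurd hodd (by decide)
  obtain ⟨e⟩ := Cfsg.Agent.S2604.result hf hF hp2 hm
  exact of_equiv_mult e

theorem pOmega_plus {F : Type} [Field F] [Fintype F] {m : ℕ} (hm : 4 ≤ m) :
    Group.IsSolvable (Cfsg.Out (Cfsg.POmega F (Cfsg.quadFormPlus m F))) := by
  obtain ⟨p, f, hp, -, hf, hF⟩ := field_data F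
  haveI hA : Group.IsSolvable (Multiplicative (ZMod f)) := Group.isSolvable_of_comm mul_comm
  by_cases h2 : p = 2
  · subst h2
    have h := Cfsg.Agent.S2607.result hf hF hm
    split_ifs at h
    · obtain ⟨e⟩ := h
      haveI := perm_solvable (n := 3) (by omega)
      exact Group.isSolvable_of_isSolvable_injective (f := e.toMonoidHom) e.injective
    · obtain ⟨e⟩ := h
      exact of_equiv_mult e
  · have h := Cfsg.Agent.S2608.result hf hF h2 hm
    split_ifs at h
    · obtain ⟨e⟩ := h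
      haveI := perm_solvable (n := 4) le_rfl
      exact Group.isSolvable_of_isSolvable_injective (f := e.toMonoidHom) e.injective
    · obtain ⟨e⟩ := h
      exact of_equiv_mult e
    · obtain ⟨e⟩ := h
      haveI : Group.IsSolvable (DihedralGroup 4) := by
        haveI : Fact (Nat.Prime 2) := ⟨Nat.prime_two⟩
        haveI := (IsPGroup.of_card (n := 3) (by rw [DihedralGroup.nat_card]; rfl) :
          IsPGroup 2 (DihedralGroup 4)).isNilpotent
        infer_instance
      exact Group.isSolvable_of_isSolvable_injective (f := e.toMonoidHom) e.injective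

theorem pOmega_minus {F : Type} [Field F] [Fintype F] {m : ℕ} (hm : 4 ≤ m) (a b : F)
    (hab : ∀ z₁ z₂ : F, z₁ ^ 2 + a * z₁ * z₂ + b * z₂ ^ 2 = 0 → z₁ = 0 ∧ z₂ = 0) :
    Group.IsSolvable (Cfsg.Out (Cfsg.POmega F (Cfsg.quadFormMinus (m - 1) F a b))) := by
  obtain ⟨p, f, hp, -, hf, hF⟩ := field_data F
  by_cases h2 : p = 2
  · subst h2
    exact of_cyclic (Cfsg.Agent.S2605.result hf hF hm a b hab).1
  · have h := Cfsg.Agent.S2606.result hf hF h2 hm a b hab
    split_ifs at h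
    · obtain ⟨e⟩ := h
      haveI : Group.IsSolvable (DihedralGroup 4) := by
        haveI : Fact (Nat.Prime 2) := ⟨Nat.prime_two⟩
        haveI := (IsPGroup.of_card (n := 3) (by rw [DihedralGroup.nat_card]; rfl) :
          IsPGroup 2 (DihedralGroup 4)).isNilpotent
        infer_instance
      haveI : Group.IsSolvable (Multiplicative (ZMod f)) := Group.isSolvable_of_comm mul_comm
      exact Group.isSolvable_of_isSolvable_injective (f := e.toMonoidHom) e.injective
    · obtain ⟨e⟩ := h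
      exact of_equiv_mult e

theorem classical {X : Type u} [Group X]
    (h : Cfsg.IsAlternating X ∨ Cfsg.IsPSL X ∨ Cfsg.IsPSp X ∨ Cfsg.IsPSU X ∨ Cfsg.IsPOmegaOdd X ∨
      Cfsg.IsPOmegaPlus X ∨ Cfsg.IsPOmegaMinus X) : Group.IsSolvable (Cfsg.Out X) := by
  rcases h with ⟨n, hn, ⟨e⟩⟩ | ⟨F, i1, i2, n, hn, h4, ⟨e⟩⟩ | ⟨F, i1, i2, m, hm, -, ⟨e⟩⟩ |
    ⟨F, i1, i2, n, q, hq, hn, h32, ⟨e⟩⟩ | ⟨F, i1, i2, m, hm, ho, ⟨e⟩⟩ | ⟨F, i1, i2, m, hm, ⟨e⟩⟩ |
    ⟨F, i1, i2, m, a, b, hm, hab, ⟨e⟩⟩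
  exacts [of_equiv e (alternating hn), of_equiv e (psl hn h4), of_equiv e (psp hm), of_equiv e (psu hq hn h32),
    of_equiv e (pOmega_odd hm ho), of_equiv e (pOmega_plus hm), of_equiv e (pOmega_minus hm a b hab)]

end Cfsg.Lib.OutKnown
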