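import Cfsg.Agent.OutSol.Known.Base
import Cfsg.Agent.S2126
import Cfsg.Agent.S2127
import Cfsg.Agent.S2128
import Cfsg.Agent.S2159
import Cfsg.Agent.Chev.Tw.AutE6
import Cfsg.Agent.Chev.Tw.AutD4

/-!
Outer automorphism groups of the exceptional groups of Lie type are solvable.
-/

set_option autoImplicit false
set_option linter.style.haveILetI false

namespace Cfsg.Lib.OutKnown

open Subgroup Cfsg.Lie

universe u

theorem chev {F : Type} [Field F] [Finite F] (D : ChevalleyDatum)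
    (hD : D ∈ [chevG2, chevB2, chevD4, chevF4, chevE6, chevE7, chevE8]) :
    Group.IsSolvable (Cfsg.Out ↥(D.group F)) := by
  obtain ⟨hn, hc, hF, hn2, hidx⟩ := Cfsg.Agent.S2159.result (F := F) D hD _ _ rfl rfl
  set q := QuotientGroup.mk' (Cfsg.Inn ↥(D.group F))
  set Db := (Subgroup.closure {φ : MulAut ↥(D.group F) | D.IsDiagonalAut φ}).map q
  set Fb := (Subgroup.closure {φ : MulAut ↥(D.group F) | D.IsFieldAut φ}).map q
  haveI := hn
  haveI := hn2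
  haveI hDs : Group.IsSolvable Db := Group.isSolvable_of_comm fun a b => hc.is_comm.comm a b
  haveI hFs : Group.IsSolvable Fb := of_cyclic hF
  haveI hFi : Group.IsSolvable (Fb.map (QuotientGroup.mk' Db)) :=
    Group.isSolvable_of_surjective (f := (QuotientGroup.mk' Db).subgroupMap Fb)
      (MonoidHom.subgroupMap_surjective _ _)
  haveI hNs : Group.IsSolvable ↥(Db ⊔ Fb) := by
    have e : (Db ⊔ Fb).map (QuotientGroup.mk' Db) = Fb.map (QuotientGroup.mk' Db) := by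
      rw [Subgroup.map_sup, QuotientGroup.map_mk'_self, bot_sup_eq]
    haveI : Group.IsSolvable ((Db ⊔ Fb).map (QuotientGroup.mk' Db)) := by rw [e]; exact hFi
    refine Group.isSolvable_of_ker_le_range (Subgroup.inclusion (le_sup_left : Db ≤ Db ⊔ Fb))
      ((QuotientGroup.mk' Db).subgroupMap (Db ⊔ Fb)) ?_
    intro x hx
    exact ⟨⟨x, (QuotientGroup.eq_one_iff _).1 (congrArg Subtype.val hx)⟩, rfl⟩
  haveI hQ : Group.IsSolvable (Cfsg.Out ↥(D.group F) ⧸ (Db ⊔ Fb)) := by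
    haveI : Finite (Cfsg.Out ↥(D.group F) ⧸ (Db ⊔ Fb)) := by
      refine Nat.finite_of_card_ne_zero ?_
      rw [← index_eq_card]
      omega
    rw [index_eq_card] at hidx
    rcases hidx with h | h | ⟨h, -⟩
    · exact of_card_le_two (Or.inl h)
    · exact of_card_le_two (Or.inr h)
    · exact Cfsg.Lib.Chars.burnside_isSolvable 2 3 Nat.prime_two Nat.prime_three _ ⟨1, 1, h⟩
  exact (Group.isSolvable_iff_subgroup_quotient (Db ⊔ Fb)).2 ⟨hNs, hQ⟩

theorem twisted_e6 {K : Type} [Field K] [Fintype K] {q : ℕ} (hq : IsPrimePow q)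
    (hK : Fintype.card K = q ^ 2) : Group.IsSolvable (Cfsg.Out ↥(twistedE6 K q)) := by
  obtain ⟨X, rfl⟩ := Cfsg.Lib.Chev.E6.exists_tw (K := K) hq hK
  rw [← Cfsg.Lib.Chev.E6.G1_eq X]
  obtain ⟨p, n, hp, hn, hpn⟩ := (isPrimePow_nat_iff _).1 hq
  haveI : Fact p.Prime := ⟨hp⟩
  let fc : (K ≃+* K) →* Cfsg.Out ↥X.G1 := (QuotientGroup.mk' (Cfsg.Inn ↥X.G1)).comp X.fld
  haveI := X.finite
  haveI : Finite (MulAut ↥X.G1) :=
    Finite.of_injective (fun e => (e : ↥X.G1 → ↥X.G1)) DFunLike.coe_injective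
  haveI : Finite (Cfsg.Out ↥X.G1) := Quotient.finite _
  refine of_comm_index_le_four fc.range ?_ ?_
  · rintro _ ⟨σ, rfl⟩ _ ⟨τ, rfl⟩
    haveI : IsCyclic (K ≃+* K) := by
      obtain ⟨p', f', hp', hc', -, hF'⟩ := field_data K
      exact (Cfsg.Lib.Known.ChevAut.ringAut_facts (F := K) p' f' hF').1
    letI : CommGroup (K ≃+* K) := IsCyclic.commGroup
    rw [← map_mul, ← map_mul, mul_comm]
  · rw [index_eq_card]
    have hs : Function.Surjective
        (fun d : (Cfsg.Lib.Chev.E6.dCls X).range => (d.1 : Cfsg.Out ↥X.G1 ⧸ fc.range)) := by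
      intro x
      obtain ⟨y, rfl⟩ := QuotientGroup.mk_surjective x
      obtain ⟨φ, rfl⟩ := QuotientGroup.mk'_surjective _ y
      obtain ⟨g, c, σ, rfl⟩ := Cfsg.Lib.Chev.E6.exists_decomp X hn hpn.symm φ
      refine ⟨⟨Cfsg.Lib.Chev.E6.dCls X c, c, rfl⟩, (QuotientGroup.eq).2 ⟨σ, ?_⟩⟩
      rw [map_mul, map_mul, show QuotientGroup.mk' (Cfsg.Inn ↥X.G1) (MulAut.conj g) = 1 from
        (QuotientGroup.eq_one_iff _).2 ⟨g, rfl⟩, one_mul]
      exact (inv_mul_cancel_left _ _).symm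
    refine (Nat.card_le_card_of_surjective _ hs).trans ?_
    rw [Cfsg.Lib.Chev.E6.card_dCls X]
    exact (Nat.le_of_dvd (by norm_num) (Nat.gcd_dvd_left 3 _)).trans (by norm_num)

theorem triality {K : Type} [Field K] [Fintype K] {q : ℕ} (hq : IsPrimePow q)
    (hK : Fintype.card K = q ^ 3) : Group.IsSolvable (Cfsg.Out ↥(twistedD4 K q)) := by
  obtain ⟨X, rfl⟩ := Cfsg.Lib.Chev.D4.exists_tw (K := K) hq hK
  rw [← Cfsg.Lib.Chev.D4.G1_eq X]
  obtain ⟨p, n, hp, hn, hpn⟩ := (isPrimePow_nat_iff _).1 hq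
  haveI : Fact p.Prime := ⟨hp⟩
  haveI : IsCyclic (K ≃+* K) := by
    obtain ⟨p', f', hp', hc', -, hF'⟩ := field_data K
    exact (Cfsg.Lib.Known.ChevAut.ringAut_facts (F := K) p' f' hF').1
  haveI : Group.IsSolvable (K ≃+* K) := of_cyclic inferInstance
  refine Group.isSolvable_of_surjective (f := (QuotientGroup.mk' (Cfsg.Inn ↥X.G1)).comp X.fld) fun x => ?_
  obtain ⟨φ, rfl⟩ := QuotientGroup.mk'_surjective _ x
  obtain ⟨c, σ, rfl⟩ := Cfsg.Lib.Chev.D4.exists_inner_mul_field X hn hpn.symm φ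
  refine ⟨σ, ?_⟩
  rw [map_mul, show QuotientGroup.mk' (Cfsg.Inn ↥X.G1) (MulAut.conj c) = 1 from
    (QuotientGroup.eq_one_iff _).2 ⟨c, rfl⟩, one_mul]
  rfl

/-- the exceptional families other than the Tits group -/
theorem exceptional {X : Type u} [Group X]
    (h : IsoChevG2 X ∨ IsoF4 X ∨ IsoChevE6 X ∨ IsoE7 X ∨ IsoE8 X ∨ Iso2E6 X ∨ Iso3D4 X ∨ IsoSuzuki X ∨
      IsoRee X ∨ Iso2F4 X) : Group.IsSolvable (Cfsg.Out X) := by
  rcases h with ⟨F, i1, i2, -, ⟨e⟩⟩ | ⟨F, i1, i2, ⟨e⟩⟩ | ⟨F, i1, i2, ⟨e⟩⟩ | ⟨F, i1, i2, ⟨e⟩⟩ |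
    ⟨F, i1, i2, ⟨e⟩⟩ | ⟨K, i1, i2, q, hq, hK, ⟨e⟩⟩ | ⟨K, i1, i2, q, hq, hK, ⟨e⟩⟩ |
    ⟨F, i1, i2, m, hm, hF, ⟨e⟩⟩ | ⟨K, i1, i2, m, hm, hK, ⟨e⟩⟩ | ⟨K, i1, i2, m, hm, hK, ⟨e⟩⟩
  · exact of_equiv e (chev chevG2 (by simp))
  · exact of_equiv e (chev chevF4 (by simp))
  · exact of_equiv e (chev chevE6 (by simp))
  · exact of_equiv e (chev chevE7 (by simp))
  · exact of_equiv e (chev chevE8 (by simp))
  · exact of_equiv e (twisted_e6 hq hK)
  · exact of_equiv e (triality hq hK)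
  · exact of_equiv e (of_card_odd (by rw [Cfsg.Agent.S2126.result hm hF]; exact odd_two_mul_add_one m))
  · exact of_equiv e (of_card_odd (by rw [Cfsg.Agent.S2127.result hm hK]; exact odd_two_mul_add_one m))
  · exact of_equiv e (of_card_odd (by rw [Cfsg.Agent.S2128.result hm hK]; exact odd_two_mul_add_one m))

end Cfsg.Lib.OutKnown
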