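import Cfsg.Agent.OutSol.Known.Base
import Cfsg.Agent.S2060
import Cfsg.Agent.S2061
import Cfsg.Agent.S2062
import Cfsg.Agent.S2063
import Cfsg.Agent.S2064
import Cfsg.Agent.S2065
import Cfsg.Agent.S2066
import Cfsg.Agent.S2067
import Cfsg.Agent.S2068
import Cfsg.Agent.S2069
import Cfsg.Agent.S2070
import Cfsg.Agent.S2071
import Cfsg.Agent.S2072
import Cfsg.Agent.S2073
import Cfsg.Agent.S2074
import Cfsg.Agent.S2075
import Cfsg.Agent.S2076
import Cfsg.Agent.S2077
import Cfsg.Agent.S2078
import Cfsg.Agent.S2079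
import Cfsg.Agent.S2080
import Cfsg.Agent.S2081
import Cfsg.Agent.S2082
import Cfsg.Agent.S2083
import Cfsg.Prelude.Def_Classification2

/-!
Outer automorphism groups of the sporadic groups other than the Baby Monster and the Monster.
-/

set_option autoImplicit false

namespace Cfsg.Lib.OutKnown

open Cfsg.Spor

universe u

theorem sporadic {X : Type u} [Group X]
    (h : IsoM11 X ∨ IsoM12 X ∨ IsoM22 X ∨ IsoM23 X ∨ IsoM24 X ∨ IsoJ1 X ∨ IsoJ2 X ∨ IsoJ3 X ∨ IsoJ4 X ∨
      IsoCo1 X ∨ IsoCo2 X ∨ IsoCo3 X ∨ IsoMcL X ∨ IsoHS X ∨ IsoSuz X ∨ IsoHe X ∨ IsoRu X ∨ IsoON X ∨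
      IsoLy X ∨ IsoFi22 X ∨ IsoFi23 X ∨ IsoFi24' X ∨ IsoHN X ∨ IsoTh X) :
    Group.IsSolvable (Cfsg.Out X) := by
  rcases h with h | h | h | h | h | h | h | ⟨F, i1, i2, w, hF, hw, ⟨e⟩⟩ | h | h | h | h | h | h | h | h | h | h | h | h | h | h | h | h
  · exact of_equiv (Classical.choice h) (of_card_le_two (Or.inl Cfsg.Agent.S2060.result))
  · exact of_equiv (Classical.choice h) (of_card_le_two (Or.inr Cfsg.Agent.S2061.result))
  · exact of_equiv (Classical.choice h) (of_card_le_two (Or.inr Cfsg.Agent.S2062.result))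
  · exact of_equiv (Classical.choice h) (of_card_le_two (Or.inl Cfsg.Agent.S2063.result))
  · exact of_equiv (Classical.choice h) (of_card_le_two (Or.inl Cfsg.Agent.S2064.result))
  · exact of_equiv (Classical.choice h) (of_card_le_two (Or.inl Cfsg.Agent.S2065.result))
  · exact of_equiv (Classical.choice h) (of_card_le_two (Or.inr Cfsg.Agent.S2066.result))
  · exact of_equiv e (of_card_le_two (Or.inr (Cfsg.Agent.S2067.result hF w hw)))
  · exact of_equiv (Classical.choice h) (of_card_le_two (Or.inl Cfsg.Agent.S2068.result))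
  · exact of_equiv (Classical.choice h) (of_card_le_two (Or.inl Cfsg.Agent.S2069.result))
  · exact of_equiv (Classical.choice h) (of_card_le_two (Or.inl Cfsg.Agent.S2070.result))
  · exact of_equiv (Classical.choice h) (of_card_le_two (Or.inl Cfsg.Agent.S2071.result))
  · exact of_equiv (Classical.choice h) (of_card_le_two (Or.inr Cfsg.Agent.S2073.result))
  · exact of_equiv (Classical.choice h) (of_card_le_two (Or.inr Cfsg.Agent.S2072.result))
  · exact of_equiv (Classical.choice h) (of_card_le_two (Or.inr Cfsg.Agent.S2074.result))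
  · exact of_equiv (Classical.choice h) (of_card_le_two (Or.inr Cfsg.Agent.S2075.result))
  · exact of_equiv (Classical.choice h) (of_card_le_two (Or.inl Cfsg.Agent.S2077.result))
  · exact of_equiv (Classical.choice h) (of_card_le_two (Or.inr Cfsg.Agent.S2078.result))
  · exact of_equiv (Classical.choice h) (of_card_le_two (Or.inl Cfsg.Agent.S2076.result))
  · exact of_equiv (Classical.choice h) (of_card_le_two (Or.inr Cfsg.Agent.S2079.result))
  · exact of_equiv (Classical.choice h) (of_card_le_two (Or.inl Cfsg.Agent.S2080.result))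
  · exact of_equiv (Classical.choice h) (of_card_le_two (Or.inr Cfsg.Agent.S2081.result))
  · exact of_equiv (Classical.choice h) (of_card_le_two (Or.inr Cfsg.Agent.S2082.result))
  · exact of_equiv (Classical.choice h) (of_card_le_two (Or.inl Cfsg.Agent.S2083.result))

end Cfsg.Lib.OutKnown
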