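import Cfsg.Agent.OutSol.Known.Classical
import Cfsg.Agent.OutSol.Known.Exceptional
import Cfsg.Agent.OutSol.Known.Sporadic

/-!
The outer automorphism group of a known simple group other than the Baby Monster and the Monster is
solvable, given this for the Tits group.
-/

set_option autoImplicit false
set_option maxRecDepth 4000
set_option linter.style.haveILetI false

namespace Cfsg.Lib.OutKnown

universe u

theorem prime_cyclic {X : Type u} [Group X] (h : Cfsg.IsPrimeCyclic X) : Group.IsSolvable (Cfsg.Out X) := by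
  haveI : Fact (Nat.card X).Prime := ⟨h⟩
  haveI : IsCyclic X := isCyclic_of_prime_card rfl
  haveI : Group.IsSolvable (MulAut X) := by
    haveI : Group.IsSolvable (ZMod (Nat.card X))ˣ := Group.isSolvable_of_comm mul_comm
    exact Group.isSolvable_of_isSolvable_injective (f := (IsCyclic.mulAutMulEquiv X).toMonoidHom)
      (MulEquiv.injective _)
  exact Group.isSolvable_of_surjective (f := QuotientGroup.mk' (Cfsg.Inn X)) (QuotientGroup.mk'_surjective _)

theorem of_iso {Y : Type} [Group Y] (htits : Group.IsSolvable (Cfsg.Out Y)) {X : Type u} [Group X]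
    (h : Nonempty (X ≃* Y)) : Group.IsSolvable (Cfsg.Out X) := of_equiv (Classical.choice h) htits

theorem of_tits (htits : Group.IsSolvable (Cfsg.Out Cfsg.Lie.TitsGroup)) {X : Type u} [Group X]
    (h : Cfsg.Lie.IsoTits X) : Group.IsSolvable (Cfsg.Out X) :=
  of_iso (Y := Cfsg.Lie.TitsGroup) htits h

theorem of_known_of_tits (htits : Group.IsSolvable (Cfsg.Out Cfsg.Lie.TitsGroup)) {X : Type u} [Group X]
    (hK : Cfsg.IsKnownSimple' X) (hB : ¬ Cfsg.Spor.IsoB X) (hM : ¬ Cfsg.Spor.IsoM X) :
    Group.IsSolvable (Cfsg.Out X) := by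
  rcases hK with h | h | h | h | h | h | h | h | h | h
  · exact prime_cyclic h
  · exact classical (Or.inl h)
  · exact classical (Or.inr (Or.inl h))
  · exact classical (Or.inr (Or.inr (Or.inl h)))
  · exact classical (Or.inr (Or.inr (Or.inr (Or.inl h))))
  · exact classical (Or.inr (Or.inr (Or.inr (Or.inr (Or.inl h)))))
  · exact classical (Or.inr (Or.inr (Or.inr (Or.inr (Or.inr (Or.inl h))))))
  · exact classical (Or.inr (Or.inr (Or.inr (Or.inr (Or.inr (Or.inr h))))))
  · rcases h with h | h | h | h | h | h | h | h | h | h | ⟨e⟩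
    · exact exceptional (Or.inl h)
    · exact exceptional (Or.inr (Or.inl h))
    · exact exceptional (Or.inr (Or.inr (Or.inl h)))
    · exact exceptional (Or.inr (Or.inr (Or.inr (Or.inl h))))
    · exact exceptional (Or.inr (Or.inr (Or.inr (Or.inr (Or.inl h)))))
    · exact exceptional (Or.inr (Or.inr (Or.inr (Or.inr (Or.inr (Or.inl h))))))
    · exact exceptional (Or.inr (Or.inr (Or.inr (Or.inr (Or.inr (Or.inr (Or.inl h)))))))
    · exact exceptional (Or.inr (Or.inr (Or.inr (Or.inr (Or.inr (Or.inr (Or.inr (Or.inl h))))))))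
    · exact exceptional (Or.inr (Or.inr (Or.inr (Or.inr (Or.inr (Or.inr (Or.inr (Or.inr (Or.inl h)))))))))
    · exact exceptional (Or.inr (Or.inr (Or.inr (Or.inr (Or.inr (Or.inr (Or.inr (Or.inr (Or.inr h)))))))))
    · exact of_tits htits e
  · simp only [Cfsg.IsSporadicGroup, hB, hM, or_false] at h
    exact sporadic h

end Cfsg.Lib.OutKnown
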