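import Cfsg.Agent.OutSol.Rank
import Cfsg.Agent.Known.TitsMult
import Cfsg.Prelude.Def_LieTwisted

/-!
The outer automorphism group of the Tits group is soluble: a Sylow `2`-subgroup is generated by two
elements, so its automorphism group is soluble.
-/

set_option autoImplicit false
set_option linter.style.haveILetI false
set_option maxRecDepth 100000
set_option maxHeartbeats 1000000
set_option Elab.async false

namespace Cfsg.Lib.OutKnown

open Cfsg.Lie Cfsg.Lib.Chev Cfsg.Lib.Chev.ReeF Cfsg.Lib.TitsMult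
open Cfsg.Lib.TitsComm
open Cfsg.Lib.TitsInvol (wG)
open Cfsg.Lib.Schur.Prime (val)

/-- The generators of the Sylow subgroup as words in the first two. -/
def twoWords : List (List ℕ) := [[0], [1], [0, 1, 0, 1, 0, 0, 0, 0, 1, 0, 0, 1], [0, 0, 0, 0, 0, 0, 1, 0, 1, 0, 0, 1, 0, 0, 0, 1], [0, 0, 0, 0, 0, 1, 0, 1, 0, 0, 0, 0], [0, 0, 0, 0, 0, 0, 0, 0, 1, 0, 1, 0, 0, 1, 0, 1], [0, 1, 0, 0, 1, 0, 1, 0, 0, 1, 0, 0], [0, 0, 0, 0, 0, 0, 0, 0, 0, 1, 0, 0, 0, 0, 1, 0, 0, 0], [1, 0, 0, 1, 0, 0, 1, 0, 0, 1, 0, 0], [0, 0, 1, 0, 0, 0, 1, 0, 0, 0, 1, 0, 0, 0, 1, 0], [0, 0, 0, 0, 0, 0, 0, 0]]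

theorem twoWords_ok : ((List.range 11).all fun k => (twoWords.getD k []).all (fun i => decide (i < 2)) &&
    sameW (pcw2.getD k []) (pcFlat pcw2 (twoWords.getD k []))) = true := by decide +kernel

theorem tits_aux (X : RF (ZMod 2)) : Group.IsSolvable (Cfsg.Out ↥(commutator ↥X.G1)) := by
  haveI : Fact (Nat.Prime 2) := ⟨Nat.prime_two⟩
  haveI : Finite ↥X.G1 := Subtype.finite
  haveI := (simple_commutator X).1
  set x : ℕ → ↥(commutator ↥X.G1) := fun k => el X (pcw2.getD k []) with hx
  set S : Subgroup ↥(commutator ↥X.G1) := Subgroup.closure (x '' {i | i < 11}) with hS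
  have hc := count2
  simp only [countS, Bool.and_eq_true, decide_eq_true_eq] at hc
  obtain ⟨⟨⟨⟨hok, -⟩, hidx⟩, hsum⟩, hlev⟩ := hc
  simp only [List.all_eq_true, decide_eq_true_eq] at hidx
  have hrules : ∀ j < 11, ∀ i ≤ j, val x (cert2.lhs j i) = val x (cert2.tail j i) := fun j hj i hi => by
    refine mat_inj X ?_
    rw [hx, mat_val X hok, mat_val X hok]
    exact sameW_sound (List.all_eq_true.1 (List.all_eq_true.1 rules2 j (List.mem_range'_1.2 ⟨Nat.zero_le _, by simpa using hj⟩))
      i (List.mem_range.2 (by omega)))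
  have hshape : cert2.shapesOK = true := by
    have := cert2_ok
    simp only [Cfsg.Lib.Schur.Prime.Cert.ok, Bool.and_eq_true] at this
    exact this.1.2
  have hup := Cfsg.Lib.Schur.Prime.card_sub_le cert2 hshape (by decide) x hrules 11 0 rfl
  have hset : ({i | 0 ≤ i ∧ i < cert2.n} : Set ℕ) = {i | i < 11} := by ext; simp [cert2]
  rw [Cfsg.Lib.Schur.Prime.sub, hset] at hup
  have hlow := card_bound X 2 11 pcw2 levels2 hok hidx hsum hlev
  have hcard : Nat.card S = 2 ^ 11 := le_antisymm hup hlow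
  have hgen : S = Subgroup.closure {x 0, x 1} := by
    refine le_antisymm ((Subgroup.closure_le _).2 ?_) ((Subgroup.closure_le _).2 ?_)
    · rintro _ ⟨k, hk, rfl⟩
      have h := List.all_eq_true.1 twoWords_ok k (List.mem_range.2 hk)
      rw [Bool.and_eq_true] at h
      have e : x k = val x (twoWords.getD k []) := by
        refine mat_inj X ?_
        rw [hx, mat_val X hok, mat_el X (okW_getD hok k)]
        exact sameW_sound h.2
      rw [e]
      refine Subgroup.list_prod_mem _ fun z hz => ?_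
      obtain ⟨q, hq, rfl⟩ := List.mem_map.1 hz
      have hq2 : q < 2 := of_decide_eq_true (List.all_eq_true.1 h.1 q hq)
      refine Subgroup.subset_closure ?_
      rcases (show q = 0 ∨ q = 1 by omega) with rfl | rfl <;> simp
    · rintro _ (rfl | rfl)
      · exact Subgroup.subset_closure ⟨0, by simp, rfl⟩
      · exact Subgroup.subset_closure ⟨1, by simp, rfl⟩
  have hfac : (Nat.card ↥(commutator ↥X.G1)).factorization 2 = 11 := by
    rw [card_commutator, show (17971200 : ℕ) = 2 ^ 11 * 8775 by norm_num,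
      Nat.factorization_mul (by norm_num) (by norm_num), Finsupp.add_apply, Nat.prime_two.factorization_pow,
      Nat.factorization_eq_zero_of_not_dvd (show ¬ 2 ∣ 8775 by norm_num)]
    simp
  let Syl : Sylow 2 ↥(commutator ↥X.G1) := Sylow.ofCard S (by rw [hcard, hfac])
  obtain ⟨r, -, hr, hr2⟩ := Cfsg.Lib.OutSol.frattini_index_three (Syl.isPGroup')
    (a := ⟨x 0, Subgroup.subset_closure ⟨0, by simp, rfl⟩⟩) (b := ⟨x 1, Subgroup.subset_closure ⟨1, by simp, rfl⟩⟩)
    (c := 1) (by
      refine Subgroup.map_injective (Subgroup.subtype_injective _) ?_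
      rw [MonoidHom.map_closure, ← MonoidHom.range_eq_map, Subgroup.range_subtype]
      show _ = S
      rw [Set.image_insert_eq, Set.image_insert_eq, Set.image_singleton, map_one]
      show Subgroup.closure ({x 0, x 1, 1} : Set ↥(commutator ↥X.G1)) = S
      rw [hgen]
      refine le_antisymm ((Subgroup.closure_le _).2 ?_) (Subgroup.closure_mono (by simp [Set.subset_def]))
      rintro _ (rfl | rfl | rfl)
      · exact Subgroup.subset_closure (Or.inl rfl)
      · exact Subgroup.subset_closure (Or.inr rfl)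
      · exact one_mem _)
  haveI := Cfsg.Lib.OutSol.isSolvable_mulAut_of_rank_two Syl.isPGroup' hr (hr2 (Or.inl rfl))
  refine Cfsg.Lib.OutSol.out_solvable_of_extenders (fun N hN ho => ?_) Syl fun T hT _ => ?_
  · rcases IsSimpleGroup.eq_bot_or_eq_top_of_normal N hN with h | h
    · exact h
    · exfalso
      rw [h, Subgroup.card_top] at ho
      rw [card_commutator] at ho
      exact absurd ho (by decide)
  · haveI := hT
    exact (Subgroup.eq_bot_iff_forall _).2 fun t ht =>
      congrArg Subtype.val (Cfsg.Lib.OutSol.perfect_subsingleton (T := T) inferInstance ⟨t, ht⟩)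

theorem tits : Group.IsSolvable (Cfsg.Out Cfsg.Lie.TitsGroup) := by
  obtain ⟨X, hX⟩ := Cfsg.Lib.Chev.ReeF.exists_rf (K := ZMod 2) (m := 0) (ZMod.card 2)
  have key : ∀ e, X.e = e → Group.IsSolvable (Cfsg.Out ↥(commutator ↥(Cfsg.Lie.twistedF4 (ZMod 2) e))) := by
    intro e he
    subst he
    exact tits_aux X
  exact key 1 (by simp [Cfsg.Lib.Chev.ReeF.RF.e, hX])

end Cfsg.Lib.OutKnown
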